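import Groth.Agent.PLaw.Points
import Mathlib.Algebra.Ring.Ext
import Groth.Agent.NormicBC70.Basic
import Mathlib.FieldTheory.PurelyInseparable.Basic
import Mathlib.FieldTheory.PrimitiveElement
import Mathlib.FieldTheory.SeparableClosure

/-!
# Multiplicative laws from a finite field extension to the base field
-/

set_option autoImplicit false
set_option linter.style.haveILetI false

universe u

open scoped TensorProduct

noncomputable section

namespace Groth.Agent.FieldLaw70

open Groth.Agent.PLaw (compat IsPoints pointOn)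

variable {k K : Type u} [Field k] [Field K] [Algebra k K] [FiniteDimensional k K] {e : ℕ}

theorem dvd_of_forall_pow_mem (he : 0 < e) (hexp : ∀ x : K, x ^ e ∈ separableClosure k K)
    (hmin : ∀ n : ℕ, 0 < n → (∀ x : K, x ^ n ∈ separableClosure k K) → e ≤ n)
    {m : ℕ} (h : ∀ x : K, x ^ m ∈ separableClosure k K) : e ∣ m := by
  by_contra hd
  have hr : 0 < m % e := Nat.pos_of_ne_zero fun h0 => hd (Nat.dvd_of_mod_eq_zero h0)
  refine absurd (hmin _ hr fun x => ?_) (not_le.mpr (Nat.mod_lt m he))
  rcases eq_or_ne x 0 with rfl | hx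
  · rw [zero_pow hr.ne']; exact zero_mem _
  have hm : x ^ (m % e) = x ^ m * ((x ^ e) ^ (m / e))⁻¹ := by
    rw [eq_mul_inv_iff_mul_eq₀ (pow_ne_zero _ (pow_ne_zero _ hx)), ← pow_mul, ← pow_add, Nat.mod_add_div]
  rw [hm]
  exact mul_mem (h x) (inv_mem (pow_mem (hexp x) _))

/-- The exponent is a power of the exponential characteristic. -/
theorem exists_eq_pow (q : ℕ) [ExpChar k q] (he : 0 < e) (hexp : ∀ x : K, x ^ e ∈ separableClosure k K)
    (hmin : ∀ n : ℕ, 0 < n → (∀ x : K, x ^ n ∈ separableClosure k K) → e ≤ n) : ∃ b, e = q ^ b := by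
  classical
  haveI := expChar_of_injective_algebraMap (algebraMap k K).injective q
  let b := Module.finBasis k K
  have hb : ∀ i, ∃ n : ℕ, b i ^ q ^ n ∈ separableClosure k K := fun i => by
    haveI := expChar_of_injective_algebraMap (algebraMap k (separableClosure k K)).injective q
    obtain ⟨n, y, hy⟩ := IsPurelyInseparable.pow_mem (separableClosure k K) q (b i)
    exact ⟨n, hy ▸ y.2⟩
  choose n hn using hb
  let a := Finset.univ.sup n
  have h : ∀ x : K, x ^ q ^ a ∈ separableClosure k K := fun x => by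
    rw [← b.sum_repr x, sum_pow_char_pow q a]
    refine sum_mem fun i _ => ?_
    rw [Algebra.smul_def, mul_pow]
    refine mul_mem (pow_mem (IntermediateField.algebraMap_mem _ _) _) ?_
    obtain ⟨c, hc⟩ := Nat.exists_eq_add_of_le (Finset.le_sup (f := n) (Finset.mem_univ i))
    rw [show a = n i + c from hc, pow_add, pow_mul]
    exact pow_mem (hn i) _
  have hd := dvd_of_forall_pow_mem he hexp hmin h
  rcases expChar_is_prime_or_one k q with hp | rfl
  · obtain ⟨i, -, hi⟩ := (Nat.dvd_prime_pow hp).mp hd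
    exact ⟨i, hi⟩
  · exact ⟨0, by simpa using hd⟩

/-- An embedding is determined on the separable closure. -/
theorem emb_ext (he : 0 < e) (hexp : ∀ x : K, x ^ e ∈ separableClosure k K)
    (hmin : ∀ n : ℕ, 0 < n → (∀ x : K, x ^ n ∈ separableClosure k K) → e ≤ n) {σ τ : Field.Emb k K}
    (h : σ (Field.powerBasisOfFiniteOfSeparable k (separableClosure k K)).gen =
      τ (Field.powerBasisOfFiniteOfSeparable k (separableClosure k K)).gen) : σ = τ := by
  have hs : σ.comp (separableClosure k K).val = τ.comp (separableClosure k K).val :=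
    PowerBasis.algHom_ext _ h
  obtain ⟨b, hb⟩ := exists_eq_pow (ringExpChar k) he hexp hmin
  haveI := expChar_of_injective_algebraMap (algebraMap k (AlgebraicClosure K)).injective (ringExpChar k)
  refine AlgHom.ext fun x => ?_
  have h1 := AlgHom.congr_fun hs ⟨_, hexp x⟩
  simp only [AlgHom.comp_apply, IntermediateField.coe_val, map_pow] at h1
  rw [hb] at h1
  exact iterateFrobenius_inj (AlgebraicClosure K) (ringExpChar k) b h1

theorem exists_algEquiv (σ τ : Field.Emb k K) :
    ∃ g : AlgebraicClosure K →ₐ[k] AlgebraicClosure K, g.comp σ = τ := by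
  haveI : Algebra.IsAlgebraic k (AlgebraicClosure K) := Algebra.IsAlgebraic.trans k K _
  haveI : IsAlgClosure k (AlgebraicClosure K) := ⟨inferInstance, inferInstance⟩
  haveI : Normal k (AlgebraicClosure K) := IsAlgClosure.normal k _
  let ω : σ.fieldRange →ₐ[k] τ.fieldRange :=
    (((AlgEquiv.ofInjectiveField σ).symm.trans (AlgEquiv.ofInjectiveField τ))).toAlgHom
  refine ⟨ω.liftNormal (AlgebraicClosure K), AlgHom.ext fun x => ?_⟩
  refine (ω.liftNormal_commutes (AlgebraicClosure K) ⟨σ x, x, rfl⟩).trans ?_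
  show ((AlgEquiv.ofInjectiveField τ) ((AlgEquiv.ofInjectiveField σ).symm
    (AlgEquiv.ofInjectiveField σ x)) : AlgebraicClosure K) = τ x
  erw [AlgEquiv.symm_apply_apply]
  rfl

variable {d : ℕ}

theorem rho_val {F : PolLaw.MulLaw k K k d} {x : Fin d → Field.Emb k K} (hx : IsPoints F x)
    {S : Type u} [CommRing S] [Algebra k S] (ρ : S →ₐ[k] AlgebraicClosure K) (z : S ⊗[k] K) :
    ρ (TensorProduct.rid k S (F.law.toFun' S z)) = ∏ i, pointOn ρ (x i) z := by
  let μ : S ⊗[k] AlgebraicClosure K →ₐ[k] AlgebraicClosure K :=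
    Algebra.TensorProduct.lift ρ (AlgHom.id k _) fun _ _ => Commute.all _ _
  have h1 : ∀ w : S ⊗[k] k, μ ((Algebra.ofId k (AlgebraicClosure K)).toLinearMap.lTensor S w) =
      ρ (TensorProduct.rid k S w) := fun w => by
    induction w using TensorProduct.induction_on with
    | zero => simp
    | tmul s a => simp [μ, Algebra.smul_def, Algebra.ofId_apply, mul_comm]
    | add u v hu hv => simp only [map_add, hu, hv]
  have h2 : ∀ i, μ (Algebra.TensorProduct.map (AlgHom.id S S) (x i) z) = pointOn ρ (x i) z := fun i => by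
    induction z using TensorProduct.induction_on with
    | zero => simp
    | tmul s b => simp [μ]
    | add u v hu hv => simp only [map_add, hu, hv]
  rw [← h1, hx S z, map_prod]
  exact Finset.prod_congr rfl fun i _ => h2 i

open Polynomial in
/-- The multiset of points of a law is unique. -/
theorem points_unique {F : PolLaw.MulLaw k K k d} {x y : Fin d → Field.Emb k K} (hx : IsPoints F x)
    (hy : IsPoints F y) : Finset.univ.val.map x = Finset.univ.val.map y := by
  classical
  let b := Module.finBasis k K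
  let z : k[X] ⊗[k] K := ∑ j : Fin (Module.finrank k K), (X ^ (j : ℕ) : k[X]) ⊗ₜ[k] b j
  let C' : AlgebraicClosure K →ₐ[k] (AlgebraicClosure K)[X] :=
    IsScalarTower.toAlgHom k (AlgebraicClosure K) _
  let ρ : k[X] →ₐ[k] (AlgebraicClosure K)[X] := Polynomial.mapAlgHom (Algebra.ofId k _)
  let L : Field.Emb k K → (AlgebraicClosure K)[X] := fun σ => pointOn ρ (C'.comp σ) z
  have hL : Function.Injective L := fun σ τ h => by
    refine AlgHom.toLinearMap_injective (b.ext fun j => ?_)
    have hc := congrArg (fun p => Polynomial.coeff p (j : ℕ)) h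
    simp [L, ρ, C', z, Polynomial.finset_sum_coeff, Polynomial.coeff_X_pow, Fin.val_eq_val] at hc
    exact hc
  have h1 := Groth.Agent.PLaw.map_chiOf (hx.comp C') ρ z
  rw [Groth.Agent.PLaw.map_chiOf (hy.comp C') ρ z] at h1
  have h2 := congrArg Polynomial.roots h1
  rw [Finset.prod_eq_multiset_prod, Finset.prod_eq_multiset_prod,
    show (fun i => X - C (pointOn ρ (C'.comp (y i)) z)) = (fun a => X - C a) ∘ fun i => L (y i) from rfl,
    show (fun i => X - C (pointOn ρ (C'.comp (x i)) z)) = (fun a => X - C a) ∘ fun i => L (x i) from rfl,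
    ← Multiset.map_map, ← Multiset.map_map, roots_multiset_prod_X_sub_C, roots_multiset_prod_X_sub_C] at h2
  refine Multiset.map_injective hL ?_
  rw [Multiset.map_map, Multiset.map_map]
  exact h2.symm

open Classical in
theorem exists_multiplicity {F : PolLaw.MulLaw k K k d} {x : Fin d → Field.Emb k K} (hx : IsPoints F x) :
    ∃ m : ℕ, d = Field.finSepDegree k K * m ∧ ∀ σ, (Finset.univ.val.map x).count σ = m := by
  classical
  haveI : Finite (Field.Emb k K) := Nat.finite_of_card_ne_zero (NeZero.ne (Field.finSepDegree k K))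
  haveI := Fintype.ofFinite (Field.Emb k K)
  have hc : ∀ σ τ, (Finset.univ.val.map x).count σ = (Finset.univ.val.map x).count τ := fun σ τ => by
    obtain ⟨g, hg⟩ := exists_algEquiv σ τ
    have hinj : Function.Injective fun (f : Field.Emb k K) => (g.comp f : Field.Emb k K) := fun f f' h =>
      AlgHom.ext fun a => g.injective (AlgHom.congr_fun h a)
    rw [← Multiset.count_map_eq_count' _ _ hinj σ, Multiset.map_map]
    show Multiset.count (g.comp σ) (Finset.univ.val.map fun i => g.comp (x i)) = _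
    rw [points_unique (hx.comp g) hx, hg]
  let σ₀ : Field.Emb k K := IsScalarTower.toAlgHom k K _
  refine ⟨(Finset.univ.val.map x).count σ₀, ?_, fun σ => hc σ σ₀⟩
  have h := Multiset.sum_count_eq_card (s := Finset.univ) (m := Finset.univ.val.map x) (fun a _ => Finset.mem_univ a)
  rw [Finset.sum_congr rfl fun σ _ => hc σ σ₀, Finset.sum_const, Multiset.card_map, Finset.card_val,
    Finset.card_fin, Finset.card_univ, smul_eq_mul, ← Nat.card_eq_fintype_card] at h
  exact h.symm

theorem eq_of_laws (F G : PolLaw.MulLaw k K k d) : F = G := by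
  classical
  obtain ⟨x, hx⟩ := Groth.Agent.PLaw.exists_isPoints F (AlgebraicClosure K)
  obtain ⟨y, hy⟩ := Groth.Agent.PLaw.exists_isPoints G (AlgebraicClosure K)
  obtain ⟨m, hm, hxm⟩ := exists_multiplicity hx
  obtain ⟨m', hm', hym⟩ := exists_multiplicity hy
  have hmm : m = m' := Nat.eq_of_mul_eq_mul_left (Nat.pos_of_ne_zero (NeZero.ne _)) (hm.symm.trans hm')
  have hxy : Finset.univ.val.map x = Finset.univ.val.map y := Multiset.ext.mpr fun σ => by rw [hxm, hym, hmm]
  refine PolLaw.MulLaw.ext (Groth.Agent.PLaw.law_ext_mvPolynomial fun n z => ?_)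
  apply Module.Flat.lTensor_preserves_injective_linearMap (M := MvPolynomial (Fin n) k)
    (Algebra.ofId k (AlgebraicClosure K)).toLinearMap (RingHom.injective _)
  rw [hx, hy, Finset.prod_eq_multiset_prod, Finset.prod_eq_multiset_prod]
  have := congrArg (fun s => (Multiset.map (fun σ : Field.Emb k K =>
    Algebra.TensorProduct.map (AlgHom.id (MvPolynomial (Fin n) k) (MvPolynomial (Fin n) k)) σ z) s).prod) hxy
  simpa [Multiset.map_map, Function.comp_def] using this

open Classical in
theorem pow_mem_of_points (he : 0 < e) (hexp : ∀ x : K, x ^ e ∈ separableClosure k K)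
    (hmin : ∀ n : ℕ, 0 < n → (∀ x : K, x ^ n ∈ separableClosure k K) → e ≤ n)
    {F : PolLaw.MulLaw k K k d} {x : Fin d → Field.Emb k K} (hx : IsPoints F x) {m : ℕ}
    (hm : ∀ σ, (Finset.univ.val.map x).count σ = m) (a : K) : a ^ m ∈ separableClosure k K := by
  haveI : Finite (Field.Emb k K) := Nat.finite_of_card_ne_zero (NeZero.ne (Field.finSepDegree k K))
  haveI := Fintype.ofFinite (Field.Emb k K)
  let σ₀ : Field.Emb k K := IsScalarTower.toAlgHom k K _
  let g := (Field.powerBasisOfFiniteOfSeparable k (separableClosure k K)).gen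
  let L := separableClosure k (AlgebraicClosure K)
  have hgL : ∀ σ : Field.Emb k K, σ g ∈ L := fun σ => map_mem_separableClosure_iff σ |>.mpr g.2
  let c : Field.Emb k K → L := fun σ => ⟨σ g, hgL σ⟩
  let δ : L ⊗[k] K := ((∏ σ ∈ Finset.univ.erase σ₀, (c σ₀ - c σ))⁻¹ ⊗ₜ[k] (1 : K)) *
    ∏ σ ∈ Finset.univ.erase σ₀, ((1 : L) ⊗ₜ[k] (g : K) - c σ ⊗ₜ[k] (1 : K))
  have hδ : ∀ τ : Field.Emb k K, pointOn L.val τ δ = if τ = σ₀ then 1 else 0 := fun τ => by
    simp only [δ, map_mul, map_prod, map_sub, PLaw.pointOn_tmul, map_one, mul_one, one_mul, map_inv₀]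
    split_ifs with h
    · subst h
      refine inv_mul_cancel₀ (Finset.prod_ne_zero_iff.mpr fun σ hσ h0 => ?_)
      exact Finset.ne_of_mem_erase hσ (emb_ext he hexp hmin (sub_eq_zero.mp h0)).symm
    · rw [Finset.prod_eq_zero (i := τ) (f := fun σ => τ (g : K) - L.val (c σ))
        (Finset.mem_erase.mpr ⟨h, Finset.mem_univ _⟩) (sub_self _), mul_zero]
  let z : L ⊗[k] K := 1 + δ * ((1 : L) ⊗ₜ[k] a - 1)
  have h := rho_val hx L.val z
  have hz : ∀ i, pointOn L.val (x i) z = if x i = σ₀ then σ₀ a else 1 := fun i => by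
    simp only [z, map_add, map_one, map_mul, map_sub, hδ, PLaw.pointOn_tmul, one_mul]
    split_ifs with h <;> simp [h]
  rw [Finset.prod_congr rfl fun i _ => hz i, Finset.prod_ite, Finset.prod_const, Finset.prod_const_one, mul_one,
    show (Finset.univ.filter fun i => x i = σ₀).card = m by
      rw [← hm σ₀, Multiset.count_map, ← Finset.filter_val, Finset.card_val]
      simp only [eq_comm], ← map_pow] at h
  refine (map_mem_separableClosure_iff σ₀).mp ?_
  rw [← h]
  exact (TensorProduct.rid k L (F.law.toFun' L z)).2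

/-- The inclusion after base change. -/
def incl (S : Type u) [CommRing S] [Algebra k S] : S ⊗[k] separableClosure k K →ₐ[S] S ⊗[k] K :=
  Algebra.TensorProduct.map (AlgHom.id S S) (separableClosure k K).val

theorem incl_injective (S : Type u) [CommRing S] [Algebra k S] : Function.Injective (incl (k := k) (K := K) S) := by
  have h := Module.Flat.lTensor_preserves_injective_linearMap (M := S)
    (separableClosure k K).val.toLinearMap Subtype.val_injective
  exact fun a b hab => h hab

theorem exists_incl_eq (he : 0 < e) (hexp : ∀ x : K, x ^ e ∈ separableClosure k K)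
    (hmin : ∀ n : ℕ, 0 < n → (∀ x : K, x ^ n ∈ separableClosure k K) → e ≤ n)
    (S : Type u) [CommRing S] [Algebra k S] (z : S ⊗[k] K) :
    ∃ y, incl (k := k) (K := K) S y = z ^ e := by
  rcases subsingleton_or_nontrivial (S ⊗[k] K) with h | h
  · exact ⟨0, Subsingleton.elim _ _⟩
  obtain ⟨b, hb⟩ := exists_eq_pow (ringExpChar k) he hexp hmin
  haveI := expChar_of_injective_algebraMap (algebraMap k (S ⊗[k] K)).injective (ringExpChar k)
  induction z using TensorProduct.induction_on with
  | zero => exact ⟨0, by rw [map_zero, zero_pow he.ne']⟩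
  | tmul s a => exact ⟨(s ^ e) ⊗ₜ ⟨a ^ e, hexp a⟩, by simp [incl, Algebra.TensorProduct.tmul_pow]⟩
  | add u v hu hv =>
    obtain ⟨y, hy⟩ := hu
    obtain ⟨y', hy'⟩ := hv
    exact ⟨y + y', by rw [map_add, hy, hy', hb, add_pow_expChar_pow]⟩

theorem finrank_sep : Module.finrank k (separableClosure k K) = Field.finSepDegree k K := by
  rw [← Field.finSepDegree_mul_finSepDegree_of_isAlgebraic k (separableClosure k K) K,
    Field.finSepDegree_eq_finrank_of_isSeparable, IsPurelyInseparable.finSepDegree_eq_one, mul_one]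

theorem norm_smul_tensor {L : Type u} [CommRing L] [Algebra k L] [Module.Finite k L] {S : Type u}
    [CommRing S] [Algebra k S] [Nontrivial S] (r : S) (y : S ⊗[k] L) :
    Algebra.norm S (r • y) = r ^ Module.finrank k L * Algebra.norm S y := by
  rw [Algebra.smul_def, map_mul, Algebra.norm_algebraMap, Module.finrank_baseChange]

theorem exists_law (he : 0 < e) (hexp : ∀ x : K, x ^ e ∈ separableClosure k K)
    (hmin : ∀ n : ℕ, 0 < n → (∀ x : K, x ^ n ∈ separableClosure k K) → e ≤ n)
    (hd : Field.finSepDegree k K * e ∣ d) :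
    ∃ F : K →ₚₗ[k] k, ((∀ (S : Type u) [CommRing S] [Algebra k S], F.toFun' S 1 = 1 ∧
        ∀ x y : S ⊗[k] K, F.toFun' S (x * y) = F.toFun' S x * F.toFun' S y) ∧
      ∀ (S : Type u) [CommRing S] [Algebra k S] (a : S) (z : S ⊗[k] K), F.toFun' S (a • z) = a ^ d • F.toFun' S z) := by
  obtain ⟨j, hj⟩ := hd
  let w : ∀ (S : Type u) [CommRing S] [Algebra k S], S ⊗[k] K → S ⊗[k] separableClosure k K := fun S _ _ z =>
    (exists_incl_eq he hexp hmin S z).choose
  have hw : ∀ (S : Type u) [CommRing S] [Algebra k S] (z : S ⊗[k] K), incl (k := k) (K := K) S (w S z) = z ^ e :=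
    fun S _ _ z => (exists_incl_eq he hexp hmin S z).choose_spec
  let f : ∀ (S : Type u) [CommRing S] [Algebra k S], S ⊗[k] K → S ⊗[k] k := fun S _ _ z =>
    (Algebra.norm S (w S z) ^ j) ⊗ₜ[k] (1 : k)
  have hnat : ∀ {S S' : Type u} [CommRing S] [Algebra k S] [CommRing S'] [Algebra k S'] (φ : S →ₐ[k] S')
      (z : S ⊗[k] K), φ.toLinearMap.rTensor k (f S z) = f S' (φ.toLinearMap.rTensor K z) := by
    intro S S' _ _ _ _ φ z
    simp only [f, LinearMap.rTensor_tmul, AlgHom.toLinearMap_apply, map_pow]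
    rw [← Groth.Agent.NormicBC70.norm_rTensor]
    congr 3
    apply incl_injective
    rw [hw, PolLaw.rTensor_algHom_apply, ← map_pow, ← hw]
    generalize w S z = y
    induction y using TensorProduct.induction_on with
    | zero => simp
    | tmul s b => simp [incl]
    | add u v hu hv => simp only [map_add, hu, hv]
  let F : K →ₚₗ[k] k :=
    { toFun' := fun S _ _ z =>
        letI : CommRing S := { Algebra.semiringToRing k, ‹CommSemiring S› with }
        f S z
      isCompat' := fun {S} _ _ {S'} _ _ φ => by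
        letI : CommRing S := { Algebra.semiringToRing k, ‹CommSemiring S› with }
        letI : CommRing S' := { Algebra.semiringToRing k, ‹CommSemiring S'› with }
        funext z
        exact hnat φ z }
  have hF : ∀ (S : Type u) [CommRing S] [Algebra k S] (z : S ⊗[k] K), F.toFun' S z = f S z := fun S _ _ z => by
    simp only [F]
    congr 1
    exact CommRing.ext rfl rfl
  refine ⟨F, fun S _ _ => ⟨?_, fun x y => ?_⟩, fun S _ _ a z => ?_⟩
  · rw [hF]
    simp only [f]
    rw [show w S 1 = 1 from incl_injective S ((hw S 1).trans ((one_pow e).trans (incl (k := k) (K := K) S).toRingHom.map_one.symm)), map_one, one_pow]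
    rfl
  · rw [hF, hF, hF]
    simp only [f]
    rw [show w S (x * y) = w S x * w S y from incl_injective S (by rw [hw, map_mul, hw, hw, mul_pow]),
      map_mul, mul_pow, Algebra.TensorProduct.tmul_mul_tmul, mul_one]
  · cases subsingleton_or_nontrivial S
    · haveI : Subsingleton (S ⊗[k] k) := Module.subsingleton S _
      exact Subsingleton.elim _ _
    rw [hF, hF]
    simp only [f]
    rw [show w S (a • z) = a ^ e • w S z from incl_injective S (by rw [hw, map_smul, hw, smul_pow]),
      norm_smul_tensor, mul_pow, TensorProduct.smul_tmul', smul_eq_mul, ← pow_mul, ← pow_mul, finrank_sep]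
    congr 3
    rw [hj]; ring

theorem main (d e : ℕ) (he : 0 < e) (hexp : ∀ x : K, x ^ e ∈ separableClosure k K)
    (hmin : ∀ n : ℕ, 0 < n → (∀ x : K, x ^ n ∈ separableClosure k K) → e ≤ n) :
    (∀ F F' : K →ₚₗ[k] k,
      ((∀ (S : Type u) [CommRing S] [Algebra k S], F.toFun' S 1 = 1 ∧
        ∀ x y : S ⊗[k] K, F.toFun' S (x * y) = F.toFun' S x * F.toFun' S y) ∧
      ∀ (S : Type u) [CommRing S] [Algebra k S] (a : S) (z : S ⊗[k] K), F.toFun' S (a • z) = a ^ d • F.toFun' S z) →
      ((∀ (S : Type u) [CommRing S] [Algebra k S], F'.toFun' S 1 = 1 ∧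
        ∀ x y : S ⊗[k] K, F'.toFun' S (x * y) = F'.toFun' S x * F'.toFun' S y) ∧
      ∀ (S : Type u) [CommRing S] [Algebra k S] (a : S) (z : S ⊗[k] K), F'.toFun' S (a • z) = a ^ d • F'.toFun' S z) → F = F') ∧
    ((∃ F : K →ₚₗ[k] k, ((∀ (S : Type u) [CommRing S] [Algebra k S], F.toFun' S 1 = 1 ∧
        ∀ x y : S ⊗[k] K, F.toFun' S (x * y) = F.toFun' S x * F.toFun' S y) ∧
      ∀ (S : Type u) [CommRing S] [Algebra k S] (a : S) (z : S ⊗[k] K), F.toFun' S (a • z) = a ^ d • F.toFun' S z)) ↔ Field.finSepDegree k K * e ∣ d) := by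
  have mk : ∀ F : K →ₚₗ[k] k, ((∀ (S : Type u) [CommRing S] [Algebra k S], F.toFun' S 1 = 1 ∧
        ∀ x y : S ⊗[k] K, F.toFun' S (x * y) = F.toFun' S x * F.toFun' S y) ∧
      ∀ (S : Type u) [CommRing S] [Algebra k S] (a : S) (z : S ⊗[k] K), F.toFun' S (a • z) = a ^ d • F.toFun' S z) →
      PolLaw.IsHomog F d ∧ PolLaw.IsMult F := by
    intro F hF
    refine ⟨fun S i1 i2 a z => ?_, fun S i1 i2 => ?_⟩
    · letI : CommRing S := { Algebra.semiringToRing k, i1 with }
      exact hF.2 S a z
    · letI : CommRing S := { Algebra.semiringToRing k, i1 with }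
      exact hF.1 S
  refine ⟨fun F F' hF hF' => congrArg PolLaw.MulLaw.law
    (eq_of_laws (⟨F, (mk F hF).1, (mk F hF).2⟩ : PolLaw.MulLaw k K k d) ⟨F', (mk F' hF').1, (mk F' hF').2⟩), ?_, ?_⟩
  · rintro ⟨F, hF⟩
    obtain ⟨x, hx⟩ := Groth.Agent.PLaw.exists_isPoints
      (⟨F, (mk F hF).1, (mk F hF).2⟩ : PolLaw.MulLaw k K k d) (AlgebraicClosure K)
    obtain ⟨m, hm, hxm⟩ := exists_multiplicity hx
    rw [hm]
    exact Nat.mul_dvd_mul_left _ (dvd_of_forall_pow_mem he hexp hmin (pow_mem_of_points he hexp hmin hx hxm))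
  · exact exists_law he hexp hmin

end Groth.Agent.FieldLaw70
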